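import Groth.Prelude.Def_BT

/-!
# Kernels on points, and the iterated inclusions of the layers of a Barsotti–Tate group
-/

set_option autoImplicit false

universe u

open CategoryTheory CategoryTheory.Limits MonoidalCategory CartesianMonoidalCategory MonObj GrpObj AlgebraicGeometry

namespace K787.BTKer

variable {S : Scheme.{u}}

/-- A kernel is a monomorphism. -/
theorem mono_of_isKernel {N G Q : Over S} [GrpObj Q] {i : N ⟶ G} {q : G ⟶ Q}
    (h : AlgGrp.IsKernel i q) : Mono i where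
  right_cancellation f g hfg := h.hom_ext hfg (toUnit_unique _ _)

theorem comp_eq_one {N G Q : Over S} [GrpObj Q] {i : N ⟶ G} {q : G ⟶ Q}
    (h : AlgGrp.IsKernel i q) : i ≫ q = 1 := by
  rw [Hom.one_def]
  exact h.w

theorem exists_lift {N G Q T : Over S} [GrpObj Q] {i : N ⟶ G} {q : G ⟶ Q}
    (h : AlgGrp.IsKernel i q) (x : T ⟶ G) (hx : x ≫ q = 1) : ∃ y : T ⟶ N, y ≫ i = x :=
  ⟨h.lift x (toUnit T) (by rw [hx, Hom.one_def]), h.lift_fst _ _ _⟩

/-- Kernels are detected on points. -/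
theorem isKernel_of_points {N G Q : Over S} [GrpObj Q] {i : N ⟶ G} {q : G ⟶ Q} [Mono i]
    (h0 : i ≫ q = 1) (h : ∀ (T : Over S) (x : T ⟶ G), x ≫ q = 1 → ∃ y : T ⟶ N, y ≫ i = x) :
    AlgGrp.IsKernel i q := by
  have w : i ≫ q = toUnit N ≫ η[Q] := by rw [h0, Hom.one_def]
  refine ⟨⟨w⟩, ⟨PullbackCone.IsLimit.mk _
    (fun s => (h s.pt s.fst (by rw [s.condition, Hom.one_def, toUnit_unique s.snd (toUnit _)])).choose)
    (fun s => (h s.pt s.fst (by rw [s.condition, Hom.one_def, toUnit_unique s.snd (toUnit _)])).choose_spec)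
    (fun s => toUnit_unique _ _) ?_⟩⟩
  intro s m hm _
  rw [← cancel_mono i, hm]
  exact (h s.pt s.fst (by rw [s.condition, Hom.one_def, toUnit_unique s.snd (toUnit _)])).choose_spec.symm

variable {ℓ h : ℕ} (G : BTGrp.ProBT ℓ S h)

instance mono_incl (ν : ℕ) : Mono (G.incl ν) := mono_of_isKernel (G.isKernel ν)

theorem mono_iter (i : (t : ℕ) → (G.G 1 ⟶ G.G (t + 1))) (hi0 : i 0 = 𝟙 (G.G 1))
    (hi : ∀ t : ℕ, i (t + 1) = i t ≫ G.incl (t + 1)) (t : ℕ) : Mono (i t) := by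
  induction t with
  | zero => rw [hi0]; infer_instance
  | succ t ih => rw [hi]; exact mono_comp _ _

theorem comp_pow_id {T A : Over S} [GrpObj A] (x : T ⟶ A) (n : ℕ) : x ≫ (𝟙 A) ^ n = x ^ n := by
  rw [MonObj.comp_pow, Category.comp_id]

theorem pow_comp_incl {T : Over S} (ν n : ℕ) (x : T ⟶ G.G ν) :
    (x ^ n) ≫ G.incl ν = (x ≫ G.incl ν) ^ n := by
  rw [MonObj.pow_comp]

theorem isKernel_inclIter (i : (t : ℕ) → (G.G 1 ⟶ G.G (t + 1))) (hi0 : i 0 = 𝟙 (G.G 1))
    (hi : ∀ t : ℕ, i (t + 1) = i t ≫ G.incl (t + 1)) (t : ℕ) :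
    AlgGrp.IsKernel (i t) ((𝟙 (G.G (t + 1))) ^ ℓ) := by
  induction t with
  | zero =>
    have h1 : (𝟙 (G.G 1)) ^ ℓ = 1 := by
      rw [← cancel_mono (G.incl 1), pow_comp_incl, Category.id_comp, MonObj.one_comp]
      have := comp_eq_one (G.isKernel 1)
      rwa [comp_pow_id, pow_one] at this
    have := mono_iter G i hi0 hi 0
    apply isKernel_of_points
    · rw [hi0, Category.id_comp]; exact h1
    · intro T x _
      exact ⟨x, by rw [hi0, Category.comp_id]⟩
  | succ t ih =>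
    have := mono_iter G i hi0 hi (t + 1)
    apply isKernel_of_points
    · have h1 := comp_eq_one ih
      rw [comp_pow_id] at h1
      rw [hi, comp_pow_id, ← pow_comp_incl, h1, MonObj.one_comp]
    · intro T x hx
      rw [comp_pow_id] at hx
      obtain ⟨y, hy⟩ := exists_lift (G.isKernel (t + 1)) x (by
        rw [comp_pow_id, pow_succ', pow_mul, hx, one_pow])
      have hy1 : y ≫ (𝟙 (G.G (t + 1))) ^ ℓ = 1 := by
        rw [comp_pow_id, ← cancel_mono (G.incl (t + 1)), pow_comp_incl, hy, hx, MonObj.one_comp]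
      obtain ⟨z, hz⟩ := exists_lift ih y hy1
      exact ⟨z, by rw [hi, ← Category.assoc, hz, hy]⟩

end K787.BTKer
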