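import Groth.Agent.BTGrp.K787.Kernel
import Groth.Agent.S4094
import Groth.Agent.Etdl.H427.RankComp
import Groth.Agent.Picfga.FiniteDescent
import Groth.Agent.S0115
import Mathlib.RingTheory.Flat.LocallyFree
import Mathlib.AlgebraicGeometry.ZariskisMainTheorem

/-!
# Homomorphisms of finite locally free group schemes with kernel of complementary degree
-/

set_option autoImplicit false

universe u

open CategoryTheory CategoryTheory.Limits MonoidalCategory CartesianMonoidalCategory MonObj GrpObj AlgebraicGeometry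

namespace K787.BTKer

theorem surjective_of_isClosedImmersion {R S : CommRingCat.{u}} (φ : R ⟶ S)
    [IsClosedImmersion (Spec.map φ)] : Function.Surjective φ.hom := by
  have h1 := (IsClosedImmersion.isAffine_surjective_of_isAffine (Spec.map φ)).2
  have h2 : φ = (Scheme.ΓSpecIso R).inv ≫ (Spec.map φ).appTop ≫ (Scheme.ΓSpecIso S).hom := by
    rw [Scheme.ΓSpecIso_naturality, Iso.inv_hom_id_assoc]
  rw [h2]
  simp only [CommRingCat.hom_comp, RingHom.coe_comp]
  exact ((ConcreteCategory.bijective_of_isIso (Scheme.ΓSpecIso S).hom).2.comp h1).comp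
    (ConcreteCategory.bijective_of_isIso (Scheme.ΓSpecIso R).inv).2

/-- A closed immersion between finite flat schemes of the same rank over an affine base is an isomorphism. -/
theorem isIso_of_finrank_eq {X Y : Scheme.{u}} {R : CommRingCat.{u}} (i : X ⟶ Y) (g : Y ⟶ Spec R)
    [IsClosedImmersion i] [IsFinite g] [Flat g] [Flat (i ≫ g)]
    (h : ∀ s, (i ≫ g).finrank s = g.finrank s) : IsIso i := by
  wlog hY : ∃ B, Y = Spec B generalizing Y
  · have _ : IsAffine Y := isAffine_of_isAffineHom g
    have e : (i ≫ Y.isoSpec.hom) ≫ Y.isoSpec.inv ≫ g = i ≫ g := by simp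
    have f1 : Flat ((i ≫ Y.isoSpec.hom) ≫ Y.isoSpec.inv ≫ g) := by rw [e]; infer_instance
    have h1 := this (i ≫ Y.isoSpec.hom) (Y.isoSpec.inv ≫ g) (fun s => by
      rw [e, h, Scheme.Hom.finrank_comp_left_of_isIso Y.isoSpec.inv g]) ⟨_, rfl⟩
    exact IsIso.of_isIso_comp_right i Y.isoSpec.hom
  obtain ⟨B, rfl⟩ := hY
  wlog hX : ∃ C, X = Spec C generalizing X
  · have _ : IsAffine X := isAffine_of_isAffineHom i
    have f1 : Flat ((X.isoSpec.inv ≫ i) ≫ g) := by rw [Category.assoc]; infer_instance
    have h1 := this (X.isoSpec.inv ≫ i) (fun s => by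
      rw [Category.assoc, Scheme.Hom.finrank_comp_left_of_isIso X.isoSpec.inv (i ≫ g), h]) ⟨_, rfl⟩
    exact IsIso.of_isIso_comp_left X.isoSpec.inv i
  obtain ⟨C, rfl⟩ := hX
  obtain ⟨φ, rfl⟩ := Spec.map_surjective i
  obtain ⟨ψ, rfl⟩ := Spec.map_surjective g
  have hs : Function.Surjective φ.hom := surjective_of_isClosedImmersion φ
  have h3 : IsFinite (Spec.map φ ≫ Spec.map ψ) := inferInstance
  rw [← Spec.map_comp] at h3
  have h4 : Flat (Spec.map φ ≫ Spec.map ψ) := inferInstance
  rw [← Spec.map_comp] at h4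
  algebraize [φ.hom, ψ.hom, φ.hom.comp ψ.hom]
  have f2 : Module.Finite R B := (IsFinite.SpecMap_iff ψ).1 inferInstance
  have f4 : Module.Flat R B := (Flat.SpecMap_iff).1 (inferInstance : Flat (Spec.map ψ))
  have f3 : Module.Finite R C := (IsFinite.SpecMap_iff _).1 h3
  have f5 : Module.Flat R C := (Flat.SpecMap_iff).1 h4
  have e2 : Spec.map ψ = Spec.map (CommRingCat.ofHom (algebraMap R B)) := rfl
  have e3 : Spec.map φ ≫ Spec.map ψ = Spec.map (CommRingCat.ofHom (algebraMap R C)) := by
    rw [← Spec.map_comp]; rfl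
  have hb : Function.Bijective (Algebra.linearMap B C |>.restrictScalars R) := by
    apply Module.bijective_of_surjective_of_rankAtStalk_eq (R := R)
    · exact hs
    · intro m _
      have := h ⟨m, inferInstance⟩
      rw [e3, e2, Scheme.Hom.finrank_SpecMap_algebraMap, Scheme.Hom.finrank_SpecMap_algebraMap] at this
      exact this.symm
  have hb' : Function.Bijective φ.hom := hb
  have : IsIso φ := (ConcreteCategory.isIso_iff_bijective φ).2 hb'
  infer_instance

section Over

variable {S : Scheme.{u}}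

/-- The action square of a homomorphism with kernel `k`. -/
theorem isPullback_of_isKernel {K A Q : Over S} [GrpObj A] [GrpObj Q] {k : K ⟶ A} {p : A ⟶ Q}
    [IsMonHom p] (h : AlgGrp.IsKernel k p) :
    IsPullback ((k ▷ A) ≫ μ[A]) (snd K A) p p := by
  have := mono_of_isKernel h
  have hk := comp_eq_one h
  have e0 : (k ▷ A) ≫ μ[A] = (fst K A ≫ k) * snd K A := by
    rw [Hom.mul_def]
    congr 1
  rw [e0]
  have w : ((fst K A ≫ k) * snd K A) ≫ p = snd K A ≫ p := by
    rw [MonObj.mul_comp, Category.assoc, hk, MonObj.comp_one, _root_.one_mul]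
  have key : ∀ s : PullbackCone p p, ∃ c : s.pt ⟶ K, c ≫ k = s.fst * s.snd⁻¹ := by
    intro s
    apply exists_lift h
    rw [MonObj.mul_comp, GrpObj.inv_comp, s.condition, mul_inv_cancel]
  choose c hc using key
  refine ⟨⟨w⟩, ⟨PullbackCone.IsLimit.mk _ (fun s => lift (c s) s.snd) ?_ ?_ ?_⟩⟩
  · intro s
    rw [MonObj.comp_mul, ← Category.assoc, lift_fst, lift_snd, hc, inv_mul_cancel_right]
  · intro s
    rw [lift_snd]
  · intro s m hm₁ hm₂
    have h2 : m ≫ snd K A = s.snd := hm₂
    have h1 : (m ≫ fst K A) ≫ k = s.fst * s.snd⁻¹ := by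
      rw [MonObj.comp_mul, h2] at hm₁
      rw [eq_mul_inv_iff_mul_eq, Category.assoc]
      exact hm₁
    apply CartesianMonoidalCategory.hom_ext
    · rw [lift_fst, ← cancel_mono k, h1, hc]
    · rw [lift_snd, h2]

end Over

section Affine

variable {R : CommRingCat.{u}}

/-- A homomorphism of finite locally free group schemes over an affine base whose kernel is finite locally free of
degree `n`, the degree of the source being `n` times that of the target, is finite locally free of degree `n` and
surjective. -/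
theorem isFinLocFreeOfDeg_of_isKernel {K A B : Over (Spec R)} [GrpObj A] [GrpObj B] (k : K ⟶ A) (f : A ⟶ B)
    [IsMonHom f] (hk : AlgGrp.IsKernel k f) {n b : ℕ} (hn : 0 < n)
    (hK : Mor2.IsFinLocFreeOfDeg n K.hom) (hA : Mor2.IsFinLocFreeOfDeg (n * b) A.hom)
    (hB : Mor2.IsFinLocFreeOfDeg b B.hom) :
    Mor2.IsFinLocFreeOfDeg n f.left ∧ Surjective f.left := by
  obtain ⟨⟨hA1, hA2, hA3⟩, hA4⟩ := hA
  obtain ⟨⟨hB1, hB2, hB3⟩, hB4⟩ := hB
  obtain ⟨⟨hK1, hK2, hK3⟩, hK4⟩ := hK
  -- the kernel is flat
  let e : pullback f η[B] ≅ K := (IsPullback.of_hasPullback f (η[B] : 𝟙_ (Over (Spec R)) ⟶ B)).isoIsPullback _ _ hk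
  have hKf : Flat (pullback f η[B]).hom := by
    rw [← Over.w e.hom]
    have : IsIso e.hom.left := inferInstanceAs (IsIso ((Over.forget (Spec R)).map e.hom))
    exact MorphismProperty.comp_mem @Flat _ _ inferInstance hK2
  obtain ⟨Q, gQ, p, i, hp, hi, hpi, hps, hpf, hpl, him, hQl, hker⟩ :=
    Groth.Agent.S4094.result (Spec R) A B f hKf
  have hkp : AlgGrp.IsKernel k p := by
    have hik := hk
    apply IsPullback.of_iso hker e (Iso.refl _) (Iso.refl _) (Iso.refl _)
    · exact (Category.comp_id _).trans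
        ((IsPullback.of_hasPullback f (η[B] : 𝟙_ (Over (Spec R)) ⟶ B)).isoIsPullback_hom_fst _ _ hk).symm
    · exact toUnit_unique _ _
    · simp
    · simp
  have hil : Mono i.left := inferInstance
  have hQsep : IsSeparated Q.hom := by
    rw [← Over.w i]
    infer_instance
  have hpq : QuasiCompact p.left := by
    have : QuasiCompact (p.left ≫ Q.hom) := by rw [Over.w]; infer_instance
    exact QuasiCompact.of_comp p.left Q.hom
  -- the degree of `p`
  have hpdeg : Mor2.IsFinLocFreeOfDeg n p.left := by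
    have sq : IsPullback ((k ▷ A) ≫ μ[A]).left (snd K A).left p.left p.left :=
      (isPullback_of_isKernel hkp).map (Over.forget (Spec R))
    refine Groth.Agent.Picfga.FiniteDescent.isFinLocFreeOfDeg_of_isPullback sq.flip ?_
    have sq2 : IsPullback (fst K A).left (snd K A).left K.hom A.hom := IsPullback.of_hasPullback K.hom A.hom
    refine ⟨⟨MorphismProperty.of_isPullback (P := @IsFinite) sq2 hK1,
      MorphismProperty.of_isPullback (P := @Flat) sq2 hK2,
      MorphismProperty.of_isPullback (P := @LocallyOfFinitePresentation) sq2 hK3⟩, fun y => ?_⟩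
    have := Scheme.Hom.finrank_of_isPullback _ _ _ _ sq2 y
    exact this.trans (hK4 _)
  obtain ⟨⟨hp1, hp2, hp3⟩, hp4⟩ := hpdeg
  -- `Q` is finite over the base
  have hQuc : UniversallyClosed Q.hom := by
    have : UniversallyClosed (p.left ≫ Q.hom) := by rw [Over.w]; infer_instance
    exact UniversallyClosed.of_comp_surjective p.left Q.hom
  have hQqc : QuasiCompact Q.hom := inferInstance
  have hQp : IsProper Q.hom := ⟨⟩
  have hip : IsProper i.left := by
    have : IsProper (i.left ≫ B.hom) := by rw [Over.w]; infer_instance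
    exact IsProper.of_comp i.left B.hom
  have hic : IsClosedImmersion i.left := (IsClosedImmersion.iff_isProper_and_mono _).2 ⟨hip, hil⟩
  have hQfin : IsFinite Q.hom := by rw [← Over.w i]; infer_instance
  have hQflat : Flat Q.hom := by
    have : Flat (p.left ≫ Q.hom) := by rw [Over.w]; infer_instance
    exact Groth.Agent.S0115.flat_of_comp p.left Q.hom
  have hiflat : Flat (i.left ≫ B.hom) := by rw [Over.w]; infer_instance
  have hiso : IsIso i.left := by
    apply isIso_of_finrank_eq i.left B.hom
    intro s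
    have h1 := Groth.Agent.Etdl.H427.RankComp.finrank_comp p.left Q.hom n hp4 s
    rw [Over.w, hA4] at h1
    rw [Over.w, hB4]
    exact (Nat.eq_of_mul_eq_mul_left hn h1).symm
  have hf : f.left = p.left ≫ i.left := by rw [← hpi]; rfl
  refine ⟨⟨⟨?_, ?_, ?_⟩, fun y => ?_⟩, ?_⟩
  · rw [hf]; infer_instance
  · rw [hf]; infer_instance
  · rw [hf]; infer_instance
  · have sq : IsPullback (𝟙 A.left) f.left p.left (inv i.left) :=
      IsPullback.of_horiz_isIso ⟨by rw [hf]; simp⟩
    rw [Scheme.Hom.finrank_of_isPullback _ _ _ _ sq, hp4]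
  · rw [hf]; infer_instance

end Affine

end K787.BTKer
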